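import Mathlib
import Cfsg.Agent.Lib.A6T.SB2
import Cfsg.Agent.Lib.HSS.Main

/-! `dl² = 1`, `um = 1`: the group `HS`. -/

set_option autoImplicit false
set_option maxRecDepth 100000

namespace H25.A6

open Subgroup H69 H36.SW H80.PC

variable {G : Type*} [Group G] [Finite G]

namespace HSx
open H1.HSS.T9

theorem wA : ∀ v < 64, ∀ w < 64, lk kap (fA v w) = mu (PS false false) (lk kap v) (lk kap w) := by decide +kernel

theorem wB : ∀ d < 8, ∀ w < 64, mu (PS false false) (lk kap (fB d w)) (lk kap (64 * d)) =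
    mu (PS false false) (lk kap (64 * d)) (lk kap w) := by decide +kernel

theorem wD : ∀ d < 8, ∀ e < 8, lk kap (64 * fD d e) = mu (PS false false) (lk kap (64 * d)) (lk kap (64 * e)) := by
  decide +kernel

theorem wI : ∀ c < 512, lk kapI c < 512 ∧
    mu (PS false false) (lk kap (lk kapI c % 64)) (lk kap (64 * (lk kapI c / 64))) = c := by decide +kernel

/-- the homomorphism -/
noncomputable def φ {xs : List G} (o : Ok xs (PS false false)) : H1.HSS.T9 →* G :=
  MonoidHom.mk' (fun x => ev xs (lk kap (x.n % 64)) * ev xs (lk kap (64 * (x.n / 64)))) fun x y => by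
    have e := congrArg (ev xs) (wB _ (d_lt x) _ (v_lt y.n))
    rw [o.mul, o.mul] at e
    rw [(mul_vd x y).1, (mul_vd x y).2, wA _ (v_lt _) _ (b_lt _ _), wD _ (d_lt x) _ (d_lt y), o.mul, o.mul, mul_assoc,
      ← mul_assoc (ev xs (lk kap (fB _ _))), e]
    simp only [mul_assoc]

theorem φ_apply {xs : List G} (o : Ok xs (PS false false)) (x : H1.HSS.T9) :
    φ o x = ev xs (lk kap (x.n % 64)) * ev xs (lk kap (64 * (x.n / 64))) := rfl

end HSx

namespace Fr
variable {F : Fr G} {a b p q um η π : G}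

theorem TS.iota (h : F.TS a b p um η π) (he : F.dl * F.dl = 1) (hm : um = 1) :
    ∃ ι : H1.HSS.T9 →* G, Function.Injective ι ∧ ι.range = F.SS a b π := by
  have o := h.okS (e := false) (m := false) he hm
  have r : (HSx.φ o).range = F.SS a b π := by
    refine le_antisymm ?_ fun x hx => ?_
    · rintro _ ⟨x, rfl⟩
      rw [HSx.φ_apply, F.SS_eq]
      exact mul_mem (ev_mem (fun _ hx => subset_closure hx) _) (ev_mem (fun _ hx => subset_closure hx) _)
    · obtain ⟨c, hc, rfl⟩ := h.memS.1 hx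
      obtain ⟨k1, k2⟩ := HSx.wI c hc
      exact ⟨⟨_, k1⟩, by rw [HSx.φ_apply, ← o.mul, k2]⟩
  refine ⟨_, fun x y e => ((Nat.bijective_iff_surjective_and_card _).2
    ⟨(HSx.φ o).rangeRestrict_surjective, ?_⟩).1 (Subtype.ext e), r⟩
  rw [r, h.cardS, H1.HSS.T9.card_eq]

theorem TS.hs (h : F.TS a b p um η π) (he : F.dl * F.dl = 1) (hm : um = 1) : Cfsg.Spor.IsoHS F.E := by
  obtain ⟨ι, hι, r⟩ := h.iota he hm
  have hc : F.dl * π * F.dl⁻¹ * π = F.t * F.v1 * F.v2 * a * b := by
    rcases h.hc with k | k | k | k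
    · exact k.2.2
    · exact absurd (k.2.1.symm.trans hm) F.hu1
    · exact absurd (k.1.symm.trans he) F.t1
    · exact absurd (k.1.symm.trans he) F.t1
  have m := F.comm_mem F.dl π
  rw [inv_eq_of_mul_eq_one_right h.ππ, hc] at m
  have aE : a ∈ F.E := h.tw.UE (subset_closure (by simp))
  have bE : b ∈ F.E := h.tw.UE (subset_closure (by simp))
  have tE : F.t ∈ F.E := by
    rwa [mul_mem_cancel_right bE, mul_mem_cancel_right aE, mul_mem_cancel_right F.v2E, mul_mem_cancel_right F.v1E] at m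
  have e : F.E = ⊤ := (eq_top_iff' _).2 fun g => (F.top g).elim id fun k => (mul_mem_cancel_right tE).1 k
  have φ : F.E ≃* G := (MulEquiv.subgroupCongr e).trans topEquiv
  haveI := F.Es
  haveI : IsSimpleGroup G := φ.symm.isSimpleGroup
  obtain ⟨ψ⟩ : Cfsg.Spor.IsoHS G := H1.HSS.Sy.iso (ι := ι) ⟨hι, r ▸ h.syl⟩
  exact ⟨φ.trans ψ⟩

end Fr

end H25.A6
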